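import Groth.Agent.FlatMor66.Semi
import Groth.Agent.E4O.GeomPoints
import Groth.Agent.E4O.OpenAt

/-! The geometric number of points of a separated quasi-finite morphism (EGA IV 15.5.1). -/

set_option autoImplicit false
universe u

open AlgebraicGeometry CategoryTheory Limits IsLocalRing Topology

namespace Groth.Agent.Count62

open FlatMor66

variable {X Y : Scheme.{u}}

/-- Lifts of a geometric point are counted by the geometric number of points of the fibre. -/
theorem card_GPt (f : X ⟶ Y) [LocallyQuasiFinite f] [QuasiCompact f] {K : Type u} [Field K] [IsAlgClosed K]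
    (p : Spec (CommRingCat.of K) ⟶ Y) : ENat.card (GPt f p) = MoreMor.nGeomConnComp f (gpt p) := by
  let _ : Algebra (Y.residueField (gpt p)) K := (gEmb p).hom.toAlgebra
  have hp : p = Spec.map (CommRingCat.ofHom (algebraMap (Y.residueField (gpt p)) K)) ≫
      Y.fromSpecResidueField (gpt p) := (gEmb_spec p).symm
  rw [← E4O.card_pullback_eq f (Or.inl inferInstance) p hp]
  have : IsFinite (pullback.snd f p) := IsFinite.of_locallyQuasiFinite _
  exact (ENat.card_congr ((Stein58.sectionsEquiv (pullback.snd f p)).symm.trans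
    (Stein58.sectionsOfIsPullback (IsPullback.of_hasPullback f p)))).symm

theorem isOpenAt_of_universallyOpen (f : X ⟶ Y) [UniversallyOpen f] (x : X) : EGA43.IsUnivOpenAt f x :=
  fun _ g x' _ => E4O.isOpenAt_of_isOpenMap (pullback.snd f g).isOpenMap x'

/-- After an étale localization at `y`, finitely many finite pieces, each open at its point over `y`,
give a lower bound for the number of points of the fibres nearby; in case of equality they cover. -/
theorem exists_pieces (f : X ⟶ Y) [LocallyQuasiFinite f] [LocallyOfFiniteType f] [IsSeparated f]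
    [QuasiCompact f] (y : Y) (hopen : ∀ x : X, f x = y → EGA43.IsUnivOpenAt f x) :
    ∃ (W : Scheme.{u}) (b : W ⟶ Y) (N : W.Opens) (w₀ : W) (ι : Type u) (_ : Finite ι)
      (V : ι → (pullback f b).Opens), Etale b ∧ w₀ ∈ N ∧ b w₀ = y ∧
      (∀ i, IsFinite ((V i).ι ≫ pullback.snd f b)) ∧
      ∀ z ∈ N, MoreMor.nGeomConnComp f y ≤ MoreMor.nGeomConnComp f (b z) ∧
        (MoreMor.nGeomConnComp f (b z) = MoreMor.nGeomConnComp f y →
          ∀ x, pullback.snd f b x = z → ∃ i, x ∈ V i) := by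
  obtain ⟨K, _, _, p, hp⟩ := exists_gpt y
  have hfin : ∀ y : Y, (f ⁻¹' {y}).Finite := fun y => f.finite_preimage_singleton y
  let s : Set X := f ⁻¹' {y}
  obtain ⟨D⟩ := exists_splitting f p s (hfin y) (fun x hx => by rw [hp]; exact hx)
  have := D.etale
  have := D.finite
  let Q := {q : GPt f p // gpt q.1 ∈ s}
  have hall : ∀ q : GPt f p, gpt q.1 ∈ s := fun q => by
    show f (gpt q.1) = y
    rw [← gpt_comp, q.2, hp]
  have : Finite Q := finite_gpts f p _ (hfin y)
  have hsd : ∀ q : Q, pullback.snd f D.b (D.pt q) = gpt D.r := fun q => snd_liftPt ..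
  have hd : ∀ jk : {jk : Q × Q // jk.1 ≠ jk.2}, ∃ M : D.W.Opens, gpt D.r ∈ M ∧
      ∀ z ∈ D.V jk.1.1, z ∈ D.V jk.1.2 → pullback.snd f D.b z ∉ M := fun jk =>
    exists_nhd_disjoint' f D.b _ _ _ fun z h1 h2 hz =>
      jk.2 (D.pt_injective ((D.unique _ z h1 hz).symm.trans (D.unique _ z h2 hz)))
  choose M hM hM' using hd
  have himg : ∀ q : Q, pullback.snd f D.b '' (D.V q : Set ↑(pullback f D.b)) ∈ 𝓝 (gpt D.r) := fun q => by
    have h := E4O.isOpenAt_of_isPullback (hopen (gpt q.1.1) (hall q.1)) (IsPullback.of_hasPullback f D.b)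
      (D.pt q) (fst_liftPt ..)
    exact hsd q ▸ h _ ((D.V q).isOpen.mem_nhds (D.mem q))
  let N : D.W.Opens := ⟨(⋂ jk, (M jk : Set D.W)) ∩ ⋂ q : Q, interior (pullback.snd f D.b '' (D.V q : Set _)),
    (isOpen_iInter_of_finite fun jk => (M jk).2).inter (isOpen_iInter_of_finite fun q => isOpen_interior)⟩
  have hy : D.b (gpt D.r) = y := by rw [← gpt_comp, D.hr, hp]
  have hny : MoreMor.nGeomConnComp f y = ENat.card Q := by
    rw [← hp, ← card_GPt f p]
    exact ENat.card_congr (Equiv.subtypeUnivEquiv hall).symm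
  refine ⟨D.W, D.b, N, gpt D.r, Q, inferInstance, D.V, inferInstance,
    ⟨Set.mem_iInter.mpr hM, Set.mem_iInter.mpr fun q => mem_interior_iff_mem_nhds.2 (himg q)⟩, hy, inferInstance,
    fun z hz => ?_⟩
  obtain ⟨K', _, _, p', rfl⟩ := exists_gpt z
  have hlift : ∀ q : Q, ∃ l : GPt (pullback.snd f D.b) p', gpt l.1 ∈ D.V q := fun q => by
    obtain ⟨x, hx, hxz⟩ := interior_subset (Set.mem_iInter.mp hz.2 q)
    obtain ⟨l, hl⟩ := exists_lift (pullback.snd f D.b) p' x hxz
    exact ⟨l, hl.symm ▸ hx⟩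
  choose l hl using hlift
  let e : Q → GPt f (p' ≫ D.b) := fun q => ⟨(l q).1 ≫ pullback.fst f D.b, by
    rw [Category.assoc, pullback.condition, reassoc_of% (l q).2]⟩
  have hext : ∀ (a c : GPt (pullback.snd f D.b) p'), a.1 ≫ pullback.fst f D.b = c.1 ≫ pullback.fst f D.b → a = c :=
    fun a c h => Subtype.ext (pullback.hom_ext h (a.2.trans c.2.symm))
  have he : Function.Injective e := by
    intro q q' h
    by_contra hne
    have h1 := hext _ _ (congrArg Subtype.val h)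
    refine hM' ⟨(q, q'), hne⟩ _ (hl q) (h1 ▸ hl q') ?_
    rw [← gpt_comp, (l q).2]
    exact Set.mem_iInter.mp hz.1 _
  have hnz : MoreMor.nGeomConnComp f (D.b (gpt p')) = ENat.card (GPt f (p' ≫ D.b)) := by
    rw [card_GPt, gpt_comp]
  have := finite_GPt f (p' ≫ D.b) (hfin _)
  rw [hny, hnz]
  refine ⟨ENat.card_le_card_of_injective he, fun heq x hx => ?_⟩
  rw [ENat.card_eq_coe_natCard, ENat.card_eq_coe_natCard, Nat.cast_inj] at heq
  obtain ⟨lx, hlx⟩ := exists_lift (pullback.snd f D.b) p' x hx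
  let g : GPt f (p' ≫ D.b) := ⟨lx.1 ≫ pullback.fst f D.b, by
    rw [Category.assoc, pullback.condition, reassoc_of% lx.2]⟩
  obtain ⟨q, hq⟩ := (he.bijective_of_nat_card_le heq.le).2 g
  have := hext _ _ (congrArg Subtype.val hq)
  exact ⟨q, hlx ▸ this ▸ hl q⟩

/-- EGA IV 15.5.1 (i). -/
theorem eventually_le (f : X ⟶ Y) [LocallyQuasiFinite f] [LocallyOfFiniteType f] [IsSeparated f]
    [QuasiCompact f] (y : Y) (hopen : ∀ x : X, f x = y → EGA43.IsUnivOpenAt f x) :
    ∀ᶠ z in 𝓝 y, MoreMor.nGeomConnComp f y ≤ MoreMor.nGeomConnComp f z := by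
  obtain ⟨W, b, N, w₀, ι, _, V, hb, hw₀, rfl, hV, hN⟩ := exists_pieces f y hopen
  filter_upwards [(b.isOpenMap _ N.2).mem_nhds ⟨w₀, hw₀, rfl⟩]
  rintro _ ⟨z, hz, rfl⟩
  exact (hN z hz).1

/-- EGA IV 15.5.1 (ii). -/
theorem exists_isFinite_nhd (f : X ⟶ Y) [LocallyQuasiFinite f] [LocallyOfFiniteType f] [IsSeparated f]
    [QuasiCompact f] (y : Y) (hopen : ∀ x : X, f x = y → EGA43.IsUnivOpenAt f x)
    (hc : ∀ᶠ z in 𝓝 y, MoreMor.nGeomConnComp f z = MoreMor.nGeomConnComp f y) :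
    ∃ U : Y.Opens, y ∈ U ∧ IsFinite (f ∣_ U) := by
  obtain ⟨O, hO, hOo, hyO⟩ := mem_nhds_iff.1 hc
  obtain ⟨W, b, N₀, w₀, ι, _, V, hb, hw₀, rfl, hV, hN⟩ := exists_pieces f y hopen
  let N : W.Opens := N₀ ⊓ b ⁻¹ᵁ ⟨O, hOo⟩
  let M : Y.Opens := ⟨_, b.isOpenMap _ N.2⟩
  refine ⟨M, ⟨w₀, ⟨hw₀, hyO⟩, rfl⟩, ?_⟩
  let c : N.toScheme ⟶ M.toScheme := IsOpenImmersion.lift M.ι (N.ι ≫ b) (by
    rintro _ ⟨z, rfl⟩
    rw [Scheme.Opens.range_ι, Scheme.Hom.comp_apply]
    exact ⟨_, z.2, rfl⟩)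
  have hcM : c ≫ M.ι = N.ι ≫ b := IsOpenImmersion.lift_fac _ _ _
  have : Etale (c ≫ M.ι) := by rw [hcM]; infer_instance
  have : Etale c := Etale.of_comp c M.ι
  have : Surjective c := ⟨fun m => by
    obtain ⟨z, hz, hzm⟩ := m.2
    refine ⟨⟨z, hz⟩, M.ι.isOpenEmbedding.injective ?_⟩
    exact ((Scheme.Hom.comp_apply c M.ι _).symm.trans ((congrArg (fun h : N.toScheme ⟶ Y => h ⟨z, hz⟩) hcM).trans
      (Scheme.Hom.comp_apply N.ι b _))).trans hzm⟩
  have hπ : IsFinite (pullback.snd f (N.ι ≫ b)) := by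
    have := fun i => isFinite_pullMap f b N.ι (V i)
    refine isFinite_of_finite_cover _ (fun i => pullMap f b N.ι ⁻¹ᵁ V i) this fun x => ?_
    have hx := (pullback.snd f (N.ι ≫ b) x).2
    refine (hN _ hx.1).2 (hO hx.2) (pullMap f b N.ι x) ?_
    rw [← Scheme.Hom.comp_apply, pullMap_snd]; rfl
  have hπ' : IsFinite (pullback.snd f (c ≫ M.ι)) := by rw [hcM]; exact hπ
  have := Groth.Agent.Unr55.isFinite.{u}
  have : IsFinite (pullback.snd f M.ι) :=
    MorphismProperty.of_isPullback_of_descendsAlong (P := @IsFinite)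
      (Q := @Surjective ⊓ @Flat ⊓ @LocallyOfFinitePresentation) (isPullback_pullMap f M.ι c).flip
      ⟨⟨inferInstance, inferInstance⟩, inferInstance⟩ hπ'
  rw [← (isPullback_morphismRestrict f M).flip.isoPullback_hom_snd]
  infer_instance

end Groth.Agent.Count62
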