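import Groth.Agent.Count62.QFCount
import Groth.Agent.Stein58.SteinFactor
import Groth.Agent.LimTop61.SteinFinite
import Groth.Agent.E4O.ChevalleyOpen
import Groth.Agent.E4O.QuasiSectionEquidim

/-! Connected components of geometric fibres of proper morphisms via the Stein factorization (EGA IV 15.5). -/

set_option autoImplicit false
universe u

open AlgebraicGeometry CategoryTheory Limits Topology

namespace Groth.Agent.Count62

variable {X Y : Scheme.{u}}

/-- Universal openness passes to the second factor of a factorization with surjective first factor. -/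
theorem isUnivOpenAt_of_factor {X' : Scheme.{u}} (a : X ⟶ X') (g : X' ⟶ Y) [Surjective a] (x' : X')
    (h : ∀ x : X, a x = x' → EGA43.IsUnivOpenAt (a ≫ g) x) : EGA43.IsUnivOpenAt g x' := by
  intro T t w hw
  let m := pullback.map (a ≫ g) t g t a (𝟙 _) (𝟙 _) (by simp) (by simp)
  have hm : IsPullback m (pullback.fst (a ≫ g) t) (pullback.fst g t) a := Stein58.isPullback_map_fst t a rfl
  have : Surjective m := MorphismProperty.of_isPullback hm.flip ‹Surjective a›
  obtain ⟨v, rfl⟩ := m.surjective w
  have hfst : a (pullback.fst (a ≫ g) t v) = x' := by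
    rw [← hw, ← Scheme.Hom.comp_apply, ← hm.w, Scheme.Hom.comp_apply]
  refine E4O.isOpenAt_of_comp m.continuous ?_
  have hc : ⇑(pullback.snd g t) ∘ ⇑m = ⇑(pullback.snd (a ≫ g) t) := funext fun z => by
    rw [Function.comp_apply, ← Scheme.Hom.comp_apply]
    exact congrArg (fun φ : _ ⟶ T => φ z) ((pullback.lift_snd _ _ _).trans (Category.comp_id _))
  exact hc ▸ h _ hfst T t v rfl

theorem eq_of_specializes (g : X ⟶ Y) [LocallyQuasiFinite g] {a b : X} (h : a ⤳ b) (hg : g a = g b) : a = b := by
  have := (g.isDiscrete_preimage_singleton (g b)).to_subtype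
  exact congrArg Subtype.val ((subtype_specializes_iff (⟨a, hg⟩ : g ⁻¹' {g b}) ⟨b, rfl⟩).2 h).eq

/-- A locally quasi-finite morphism with a dominating generization at a point over a geometrically
unibranch point is universally open there. -/
theorem isUnivOpenAt_of_dominating [IsLocallyNoetherian Y] (g : X ⟶ Y) [LocallyOfFiniteType g]
    [LocallyQuasiFinite g] {x ξ : X} (hξ : ξ ⤳ x) (hcomp : ∀ y' : Y, y' ⤳ g x → g ξ ⤳ y')
    (hy : CAlg2.IsGeomUnibranch (Y.presheaf.stalk (g x))) : EGA43.IsUnivOpenAt g x := by
  refine E4O.isUnivOpenAt_of_geomUnibranch g (fun a ha hga => eq_of_specializes g ha hga) hξ hcomp ?_ hy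
  rw [E4O.fdeg_eq_zero_of_closed_in_fibre (f := g) fun x' hx' h => (eq_of_specializes g h hx'.symm).symm]
  exact Nat.zero_le _

theorem nGeomConnComp_le_of_proper [IsLocallyNoetherian Y] (f : X ⟶ Y) [IsProper f] (y : Y)
    (hopen : ∀ x' : f.normalization, f.fromNormalization x' = y → EGA43.IsUnivOpenAt f.fromNormalization x') :
    ∀ᶠ z in 𝓝 y, MoreMor.nGeomConnComp f y ≤ MoreMor.nGeomConnComp f z := by
  have := LimTop61.isFinite_fromNormalization f
  filter_upwards [eventually_le f.fromNormalization y hopen] with z hz
  rw [(Stein58.nGeomConnComp_fromNormalization f y).2, (Stein58.nGeomConnComp_fromNormalization f z).2]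
  exact hz

theorem surjective_toNormalization (f : X ⟶ Y) [IsProper f] : Surjective f.toNormalization := by
  have := Stein58.geometricallyConnected_toNormalization f
  infer_instance

/-- EGA IV 15.5.3 (lower semicontinuity). -/
theorem eventually_le_of_proper_univOpen [IsLocallyNoetherian Y] (f : X ⟶ Y) [IsProper f] (y : Y)
    (hopen : ∀ x : X, f x = y → EGA43.IsUnivOpenAt f x) :
    ∀ᶠ z in 𝓝 y, MoreMor.nGeomConnComp f y ≤ MoreMor.nGeomConnComp f z := by
  refine nGeomConnComp_le_of_proper f y fun x' hx' => ?_
  have := surjective_toNormalization f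
  refine isUnivOpenAt_of_factor f.toNormalization f.fromNormalization x' fun x hx => ?_
  rw [Scheme.Hom.toNormalization_fromNormalization]
  refine hopen x ?_
  rw [← hx', ← hx, ← Scheme.Hom.comp_apply, Scheme.Hom.toNormalization_fromNormalization]

theorem eventually_le_of_proper_geomUnibranch [IsLocallyNoetherian Y] [IrreducibleSpace Y] (f : X ⟶ Y)
    [IsProper f] (hdom : ∀ Z ∈ irreducibleComponents (X : Type u), closure (f.base '' Z) = Set.univ) (y : Y)
    (hy : CAlg2.IsGeomUnibranch (Y.presheaf.stalk y)) :
    ∀ᶠ z in 𝓝 y, MoreMor.nGeomConnComp f y ≤ MoreMor.nGeomConnComp f z := by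
  refine nGeomConnComp_le_of_proper f y fun x' hx' => ?_
  subst hx'
  have := LimTop61.isFinite_fromNormalization f
  have := surjective_toNormalization f
  obtain ⟨x, rfl⟩ := f.toNormalization.surjective x'
  let ξ := irreducibleComponent x
  obtain ⟨η, hη⟩ := QuasiSober.sober (isIrreducible_irreducibleComponent (x := x)) isClosed_irreducibleComponent
  refine isUnivOpenAt_of_dominating f.fromNormalization
    ((hη.specializes mem_irreducibleComponent).map f.toNormalization.continuous) (fun y' _ => ?_) hy
  have h := hdom _ (irreducibleComponent_mem_irreducibleComponents x)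
  rw [← hη.def, closure_image_closure f.continuous, Set.image_singleton] at h
  rw [← Scheme.Hom.comp_apply, Scheme.Hom.toNormalization_fromNormalization]
  exact specializes_iff_mem_closure.2 (h.ge (Set.mem_univ y'))

end Groth.Agent.Count62
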