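import Groth.Agent.Conn62.GenSplit
import Groth.Agent.Count62.SteinCount
import Groth.Agent.S4950
import Groth.Agent.S1339
import Mathlib.AlgebraicGeometry.Geometrically.Reduced

/-! Constancy of the number of geometric connected components (EGA IV 15.5.3). -/

set_option autoImplicit false
universe u

open AlgebraicGeometry CategoryTheory Limits Topology

namespace Groth.Agent.Count62

variable {X Y : Scheme.{u}}

theorem eq_closedPoint_or {A : Type u} [CommRing A] [IsDomain A] [IsDiscreteValuationRing A]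
    (z : ↥(Spec (CommRingCat.of A))) :
    z = IsLocalRing.closedPoint A ∨ z = genericPoint (Spec (CommRingCat.of A)) := by
  rw [genericPoint_eq_bot_of_affine]
  by_cases h : (z : PrimeSpectrum A).asIdeal = ⊥
  · exact Or.inr (PrimeSpectrum.ext h)
  · exact Or.inl (PrimeSpectrum.ext (IsLocalRing.eq_maximalIdeal ((z : PrimeSpectrum A).2.isMaximal h)))

theorem generic_ne_closed {A : Type u} [CommRing A] [IsDomain A] [IsDiscreteValuationRing A] :
    genericPoint (Spec (CommRingCat.of A)) ≠ IsLocalRing.closedPoint A := by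
  rw [genericPoint_eq_bot_of_affine]
  exact fun h => IsDiscreteValuationRing.not_a_field A (congrArg PrimeSpectrum.asIdeal h).symm

/-- Over a discrete valuation ring: for a connected-fibre cover of a finite scheme, with reduced special fibre,
there are at most as many generic points as special ones. -/
theorem card_generic_le {A : Type u} [CommRing A] [IsDomain A] [IsDiscreteValuationRing A]
    {P Q : Scheme.{u}} (m : P ⟶ Q) [GeometricallyConnected m] [IsProper m] (q : Q ⟶ Spec (CommRingCat.of A))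
    [IsFinite q] (hopen : ∀ x : P, (m ≫ q) x = IsLocalRing.closedPoint A → EGA43.IsOpenAt (m ≫ q).base x)
    (hred : AlgebraicGeometry.IsReduced ((m ≫ q).fiber (IsLocalRing.closedPoint A))) :
    ENat.card ↥(q.fiber (genericPoint (Spec (CommRingCat.of A)))) ≤
      ENat.card ↥(q.fiber (IsLocalRing.closedPoint A)) := by
  classical
  let b := genericPoint (Spec (CommRingCat.of A))
  let a := IsLocalRing.closedPoint A
  have hlfp : LocallyOfFinitePresentation (m ≫ q) := E4O.locallyOfFinitePresentation_of_isLocallyNoetherian _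
  have : IsLocallyNoetherian P := LocallyOfFiniteType.isLocallyNoetherian (m ≫ q)
  have hπ : ∀ p : q ⁻¹' {b}, ∃ s : q ⁻¹' {a}, p.1 ⤳ s.1 := fun p => by
    have hc : IsClosed (q '' closure {p.1}) := q.isClosedMap _ isClosed_closure
    have hb : b ⤳ a := genericPoint_specializes a
    obtain ⟨s, hs, hsa⟩ := hb.mem_closed hc ⟨p.1, subset_closure rfl, p.2⟩
    exact ⟨⟨s, hsa⟩, specializes_iff_mem_closure.2 hs⟩
  choose π hπ using hπ
  rw [ENat.card_congr (q.fiberHomeo b).toEquiv, ENat.card_congr (q.fiberHomeo a).toEquiv]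
  refine ENat.card_le_card_of_injective (f := π) fun p p' hpp => ?_
  by_contra hne
  have := (q.isDiscrete_preimage_singleton b).to_subtype
  let G : Set P := ((m ≫ q) ⁻¹' {a})ᶜ
  have hGb : ∀ x : P, x ∈ G ↔ m x ∈ q ⁻¹' {b} := fun x => by
    refine ⟨fun h => (eq_closedPoint_or (q (m x))).resolve_left fun h' => h (h' : (m ≫ q) x = a), fun h h' => ?_⟩
    exact generic_ne_closed (h.symm.trans (h' : q (m x) = a))
  have hGo : IsOpen G :=
    ((IsLocalRing.isClosed_singleton_closedPoint A).preimage (m ≫ q).continuous).isOpen_compl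
  obtain ⟨O, hO, hOp⟩ := isOpen_induced_iff.1 (isOpen_discrete ({p} : Set (q ⁻¹' {b})))
  obtain ⟨O', hO', hO'p⟩ := isOpen_induced_iff.1 (isOpen_discrete ({p}ᶜ : Set (q ⁻¹' {b})))
  let U₁ : Set P := G ∩ m ⁻¹' O
  let U₂ : Set P := G ∩ m ⁻¹' O'
  have hmem : ∀ x, ∀ hx : x ∈ G, (m x ∈ O ↔ (⟨m x, (hGb x).1 hx⟩ : q ⁻¹' {b}) = p) ∧
      (m x ∈ O' ↔ (⟨m x, (hGb x).1 hx⟩ : q ⁻¹' {b}) ≠ p) := fun x hx =>
    ⟨Set.ext_iff.1 hOp ⟨m x, (hGb x).1 hx⟩, Set.ext_iff.1 hO'p ⟨m x, (hGb x).1 hx⟩⟩
  have hU₁ : IsOpen U₁ := hGo.inter (hO.preimage m.continuous)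
  have hU₂ : IsOpen U₂ := hGo.inter (hO'.preimage m.continuous)
  have hcup : U₁ ∪ U₂ = G := by
    ext x
    refine ⟨fun h => h.elim And.left And.left, fun hx => ?_⟩
    by_cases h : (⟨m x, (hGb x).1 hx⟩ : q ⁻¹' {b}) = p
    · exact Or.inl ⟨hx, (hmem x hx).1.2 h⟩
    · exact Or.inr ⟨hx, (hmem x hx).2.2 h⟩
  have hcap : U₁ ∩ U₂ = ∅ := Set.eq_empty_of_forall_notMem fun x hx =>
    (hmem x hx.1.1).2.1 hx.2.2 ((hmem x hx.1.1).1.1 hx.1.2)
  obtain ⟨x₁, hx₁⟩ := m.surjective p.1
  obtain ⟨x₂, hx₂⟩ := m.surjective p'.1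
  have hx₁G : x₁ ∈ G := (hGb x₁).2 (hx₁ ▸ p.2)
  have hx₂G : x₂ ∈ G := (hGb x₂).2 (hx₂ ▸ p'.2)
  have hx₁U : x₁ ∈ U₁ := ⟨hx₁G, (hmem x₁ hx₁G).1.2 (Subtype.ext hx₁)⟩
  have hx₂U : x₂ ∈ U₂ := ⟨hx₂G, (hmem x₂ hx₂G).2.2 fun h => hne
    (Subtype.ext ((congrArg Subtype.val h).symm.trans hx₂))⟩
  obtain ⟨s, hs, hsmem⟩ : ∃ s : Q, q s = a ∧ (p.1 ⤳ s ∧ p'.1 ⤳ s) :=
    ⟨(π p).1, (π p).2, hπ p, hpp ▸ hπ p'⟩
  have hlift : ∀ (U : Set P) (x : P) (p : Q), x ∈ U → m x = p → p ⤳ s → ∃ z ∈ closure U, m z = s := by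
    intro U x p hx hxp hps
    exact hps.mem_closed (m.isClosedMap _ isClosed_closure) ⟨x, subset_closure hx, hxp⟩
  obtain ⟨z₁, hz₁, hz₁s⟩ := hlift U₁ x₁ _ hx₁U hx₁ hsmem.1
  obtain ⟨z₂, hz₂, hz₂s⟩ := hlift U₂ x₂ _ hx₂U hx₂ hsmem.2
  have hsub : m ⁻¹' {s} ⊆ closure U₁ ∪ closure U₂ := by
    intro x hx
    have hxa : (m ≫ q) x = a := (congrArg q hx).trans hs
    obtain ⟨w, hw, hwx⟩ := E4O.isOpenAt_iff_forall_exists_specializes.1 (hopen x hxa) b
      (genericPoint_specializes _)
    rw [← closure_union, hcup]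
    exact hwx.mem_closed isClosed_closure (subset_closure ((hGb w).2 hw))
  obtain ⟨z, hzs, hzU₁, hzU₂⟩ := isPreconnected_closed_iff.1 (m.isConnected_preimage_singleton s).isPreconnected
    _ _ isClosed_closure isClosed_closure hsub ⟨z₁, hz₁s, hz₁⟩ ⟨z₂, hz₂s, hz₂⟩
  obtain ⟨w₁, hw₁, hw₁z⟩ := E4O.exists_specializes_of_mem_closure_isLocallyConstructible
    (E4O.isLocallyConstructible_of_isOpen' hU₁) hzU₁
  obtain ⟨w₂, hw₂, hw₂z⟩ := E4O.exists_specializes_of_mem_closure_isLocallyConstructible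
    (E4O.isLocallyConstructible_of_isOpen' hU₂) hzU₂
  have hza : (m ≫ q) z = a := (congrArg q hzs).trans hs
  refine Conn62.not_split_at (m ≫ q) z hza (fun x hx _ => hopen x hx) ?_ hU₁ hU₂ hcup hcap hw₁ hw₂ hw₁z hw₂z
  have : AlgebraicGeometry.IsReduced ((m ≫ q).fiber ((m ≫ q) z)) := hza.symm ▸ hred
  infer_instance

theorem isReduced_fiber_baseChange (f : X ⟶ Y) {T : Scheme.{u}} (g : T ⟶ Y) (t : T)
    [GeometricallyReduced (f.fiberToSpecResidueField (g t))] :
    AlgebraicGeometry.IsReduced ((pullback.snd f g).fiber t) := by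
  have h1 : AlgebraicGeometry.IsReduced
      (pullback (f.fiberToSpecResidueField (g t)) (Spec.map (g.residueFieldMap t))) :=
    GeometricallyReduced.geometrically_isReduced (f := f.fiberToSpecResidueField (g t)) _ _ _
      (IsPullback.of_hasPullback _ _)
  let e := pullbackLeftPullbackSndIso f g (T.fromSpecResidueField t)
  let e' := pullbackLeftPullbackSndIso f (Y.fromSpecResidueField (g t)) (Spec.map (g.residueFieldMap t))
  have heq : Spec.map (g.residueFieldMap t) ≫ Y.fromSpecResidueField (g t) = T.fromSpecResidueField t ≫ g :=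
    Scheme.Hom.SpecMap_residueFieldMap_fromSpecResidueField g t
  have h2 : AlgebraicGeometry.IsReduced (pullback f (T.fromSpecResidueField t ≫ g)) := by
    rw [← heq]
    have : AlgebraicGeometry.IsReduced
        (pullback (pullback.snd f (Y.fromSpecResidueField (g t))) (Spec.map (g.residueFieldMap t))) := h1
    exact isReduced_of_isOpenImmersion e'.inv
  exact isReduced_of_isOpenImmersion e.hom

theorem nGeomConnComp_le_of_specializes [IsLocallyNoetherian Y] (f : X ⟶ Y) [IsProper f] {y z : Y}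
    (hzy : z ⤳ y) (hopen : ∀ x : X, f x = y → EGA43.IsUnivOpenAt f x)
    [GeometricallyReduced (f.fiberToSpecResidueField y)] :
    MoreMor.nGeomConnComp f z ≤ MoreMor.nGeomConnComp f y := by
  by_cases hne : z = y
  · rw [hne]
  have := LimTop61.isFinite_fromNormalization f
  rw [(Stein58.nGeomConnComp_fromNormalization f y).2, (Stein58.nGeomConnComp_fromNormalization f z).2]
  obtain ⟨A, _, _, _, g, hga, hgb, hny, hnz⟩ := S4950.result f.fromNormalization y z hne hzy
  rw [hny, hnz]
  subst hga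
  let m : pullback f g ⟶ pullback f.fromNormalization g :=
    pullback.map f g f.fromNormalization g f.toNormalization (𝟙 _) (𝟙 _) (by simp) (by simp)
  have hm : IsPullback m (pullback.fst f g) (pullback.fst f.fromNormalization g) f.toNormalization :=
    Stein58.isPullback_map_fst g _ f.toNormalization_fromNormalization
  have := Stein58.geometricallyConnected_toNormalization f
  have := Stein58.isProper_toNormalization f
  have : GeometricallyConnected m := MorphismProperty.of_isPullback hm.flip ‹GeometricallyConnected f.toNormalization›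
  have : IsProper m := MorphismProperty.of_isPullback hm.flip ‹IsProper f.toNormalization›
  have hmq : m ≫ pullback.snd f.fromNormalization g = pullback.snd f g :=
    (pullback.lift_snd _ _ _).trans (Category.comp_id _)
  refine card_generic_le m _ ?_ ?_
  · intro x hx
    rw [hmq] at hx ⊢
    refine E4O.isOpenAt_of_isPullback (hopen _ ?_) (IsPullback.of_hasPullback f g) x rfl
    rw [← Scheme.Hom.comp_apply, pullback.condition, Scheme.Hom.comp_apply, hx]
  · rw [hmq]
    exact isReduced_fiber_baseChange f g _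

theorem eventually_eq [IsLocallyNoetherian Y] (f : X ⟶ Y) [IsProper f] (y : Y)
    (hopen : ∀ x : X, f x = y → EGA43.IsUnivOpenAt f x) [GeometricallyReduced (f.fiberToSpecResidueField y)] :
    ∀ᶠ z in 𝓝 y, MoreMor.nGeomConnComp f z = MoreMor.nGeomConnComp f y := by
  have : LocallyOfFinitePresentation f := E4O.locallyOfFinitePresentation_of_isLocallyNoetherian f
  refine E4O.mem_nhds_of_forall_generization (S1339.result f (MoreMor.nGeomConnComp f y)) fun z hz => ?_
  refine le_antisymm (nGeomConnComp_le_of_specializes f hz hopen) ?_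
  obtain ⟨V, hV, hVo, hyV⟩ := mem_nhds_iff.1 (eventually_le_of_proper_univOpen f y hopen)
  exact hV (hz.mem_open hVo hyV)

end Groth.Agent.Count62
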