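import Groth.Agent.Count62.QFCount
import Groth.Agent.Count62.SteinCount
import Groth.Agent.E4O.GenOpen
import Groth.Agent.SchBasics.Reduced
import Groth.Agent.Unr55.EtaleComponents

/-! Constancy of the number of geometric points separates the components (EGA IV 15.5.2). -/

set_option autoImplicit false
set_option linter.style.haveILetI false
universe u

open AlgebraicGeometry CategoryTheory Limits IsLocalRing Topology TopologicalSpace

namespace Groth.Agent.Count62

open FlatMor66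

variable {X Y : Scheme.{u}}

theorem specializes_of_unibranch {y η y' : Y} (hy : CAlg2.IsGeomUnibranch (Y.presheaf.stalk y))
    (hη : η ⤳ y) (hmax : ∀ z, z ⤳ η → z = η) (hy' : y' ⤳ y) : η ⤳ y' := by
  obtain ⟨m, hm, hmmax, -⟩ := Unr55.EtComp.exists_maximal_generization y'
  obtain rfl := Unr55.EtComp.eq_of_maximal y (Unr55.EtComp.subsingleton_minimalPrimes hy)
    (hm.trans hy') hη hmmax hmax
  exact hm

/-- The reduced closed subscheme on `C`, mapped to `Y`. -/
noncomputable def restr (f : X ⟶ Y) (C : Closeds X) :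
    (Scheme.IdealSheafData.vanishingIdeal C).subscheme ⟶ Y :=
  (Scheme.IdealSheafData.vanishingIdeal C).subschemeι ≫ f

theorem range_ι (C : Closeds X) :
    Set.range (Scheme.IdealSheafData.vanishingIdeal C).subschemeι = (C : Set X) :=
  SchBasics.range_vanishingIdeal_subschemeι _

variable {K : Type u} [Field K]

/-- Lifts to a closed subscheme are lifts. -/
noncomputable def toGPt (f : X ⟶ Y) (C : Closeds X) (p : Spec (CommRingCat.of K) ⟶ Y)
    (q : GPt (restr f C) p) : GPt f p :=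
  ⟨q.1 ≫ (Scheme.IdealSheafData.vanishingIdeal C).subschemeι, (Category.assoc _ _ _).trans q.2⟩

theorem toGPt_injective (f : X ⟶ Y) (C : Closeds X) (p : Spec (CommRingCat.of K) ⟶ Y) :
    Function.Injective (toGPt f C p) := fun a b h =>
  Subtype.ext ((cancel_mono (Scheme.IdealSheafData.vanishingIdeal C).subschemeι).1 (congrArg Subtype.val h))

theorem gpt_toGPt_mem (f : X ⟶ Y) (C : Closeds X) (p : Spec (CommRingCat.of K) ⟶ Y)
    (q : GPt (restr f C) p) : gpt (toGPt f C p q).1 ∈ C := by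
  show gpt (q.1 ≫ (Scheme.IdealSheafData.vanishingIdeal C).subschemeι) ∈ C
  rw [gpt_comp]
  exact (range_ι C).le ⟨_, rfl⟩

theorem exists_toGPt_eq (f : X ⟶ Y) (C : Closeds X) (p : Spec (CommRingCat.of K) ⟶ Y) (q : GPt f p)
    (h : gpt q.1 ∈ C) : ∃ q', toGPt f C p q' = q := by
  let ι := (Scheme.IdealSheafData.vanishingIdeal C).subschemeι
  have hsub : Set.range q.1 ⊆ Set.range ι := by
    rintro _ ⟨z, rfl⟩
    rw [range_ι, show z = closedPoint K from Subsingleton.elim (α := PrimeSpectrum K) _ _]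
    exact h
  let l := IsClosedImmersion.lift ι q.1 (SchBasics.ker_le_ker_of_range_subset _ ι hsub)
  have hl : l ≫ ι = q.1 := IsClosedImmersion.lift_fac _ _ _
  exact ⟨⟨l, by rw [restr, ← Category.assoc, hl]; exact q.2⟩, Subtype.ext hl⟩

theorem isUnivOpenAt_restr [IsLocallyNoetherian Y] (f : X ⟶ Y) [LocallyOfFiniteType f] [LocallyQuasiFinite f]
    (C : Closeds X) {y η : Y} (hy : CAlg2.IsGeomUnibranch (Y.presheaf.stalk y))
    (hη : η ⤳ y) (hmax : ∀ z, z ⤳ η → z = η)
    (hC : ∀ a ∈ C, f a = y → ∃ w ∈ C, f w = η ∧ w ⤳ a)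
    (v : ↥(Scheme.IdealSheafData.vanishingIdeal C).subscheme) (hv : restr f C v = y) :
    EGA43.IsUnivOpenAt (restr f C) v := by
  have : LocallyOfFiniteType (restr f C) := by rw [restr]; infer_instance
  have : LocallyQuasiFinite (restr f C) := by rw [restr]; infer_instance
  let ι := (Scheme.IdealSheafData.vanishingIdeal C).subschemeι
  obtain ⟨w, hwC, hfw, hwv⟩ := hC (ι v) ((range_ι C).le ⟨v, rfl⟩)
    ((Scheme.Hom.comp_apply ι f v).symm.trans hv)
  obtain ⟨w₀, rfl⟩ := (range_ι C).ge hwC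
  refine isUnivOpenAt_of_dominating (restr f C) (ι.isEmbedding.isInducing.specializes_iff.1 hwv)
    (fun y' hy' => ?_) (hv ▸ hy)
  rw [show restr f C w₀ = η from (Scheme.Hom.comp_apply ι f w₀).trans hfw]
  exact specializes_of_unibranch hy hη hmax (hv ▸ hy')

theorem disjoint_components [IsLocallyNoetherian Y] (f : X ⟶ Y) [IsSeparated f] [LocallyQuasiFinite f]
    [LocallyOfFiniteType f] [QuasiCompact f] [UniversallyOpen f]
    (hY : ∀ y : Y, CAlg2.IsGeomUnibranch (Y.presheaf.stalk y))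
    (hn : IsLocallyConstant (fun z : Y => MoreMor.nGeomConnComp f z))
    (Z : Set X) (hZ : Z ∈ irreducibleComponents (X : Type u))
    (Z' : Set X) (hZ' : Z' ∈ irreducibleComponents (X : Type u)) (hne : Z ≠ Z') : Disjoint Z Z' := by
  rw [Set.disjoint_left]
  intro x hx hx'
  have : LocallyOfFinitePresentation f := E4O.locallyOfFinitePresentation_of_isLocallyNoetherian f
  obtain ⟨ξ, hξ⟩ := QuasiSober.sober hZ.1 (isClosed_of_mem_irreducibleComponents Z hZ)
  obtain ⟨ξ', hξ'⟩ := QuasiSober.sober hZ'.1 (isClosed_of_mem_irreducibleComponents Z' hZ')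
  have hgen : ∀ a : X, ∀ y' : Y, y' ⤳ f a → ∃ w, f w = y' ∧ w ⤳ a := fun a =>
    E4O.isOpenAt_iff_forall_exists_specializes.1 (E4O.isOpenAt_of_isOpenMap f.isOpenMap a)
  have hmaxX : ∀ {W : Set X} {c : X}, W ∈ irreducibleComponents (X : Type u) → IsGenericPoint c W →
      ∀ z, z ⤳ c → z = c := fun {W c} hW hc z hz => by
    have h1 : closure {c} ⊆ closure {z} := specializes_iff_closure_subset.1 hz
    have h2 : closure {z} ⊆ closure {c} := by
      rw [hc.def] at h1 ⊢
      exact hW.2 isIrreducible_singleton.closure h1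
    exact hz.antisymm (specializes_iff_closure_subset.2 h2) |>.eq
  have hmax : ∀ z, z ⤳ f ξ → z = f ξ := fun z hz => by
    obtain ⟨w, hw, hwξ⟩ := hgen ξ z hz
    rw [← hw, hmaxX hZ hξ w hwξ]
  let y := f x
  let η := f ξ
  have hξx : ξ ⤳ x := hξ.specializes hx
  have hξ'x : ξ' ⤳ x := hξ'.specializes hx'
  have hη : η ⤳ y := hξx.map f.continuous
  have hη' : f ξ' = η := by
    refine Unr55.EtComp.eq_of_maximal y (Unr55.EtComp.subsingleton_minimalPrimes (hY y))
      (hξ'x.map f.continuous) hη (fun z hz => ?_) hmax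
    obtain ⟨w, hw, hwξ⟩ := hgen ξ' z hz
    rw [← hw, hmaxX hZ' hξ' w hwξ]
  -- the two closed pieces
  let C₁ : Closeds X := ⟨closure {ξ}, isClosed_closure⟩
  let C₂ : Closeds X := ⟨closure (f ⁻¹' {η} \ {ξ}), isClosed_closure⟩
  have hfin : (f ⁻¹' {η} \ {ξ}).Finite := (f.finite_preimage_singleton η).subset Set.sdiff_subset
  have hC₂ : ∀ a, a ∈ C₂ ↔ ∃ w, f w = η ∧ w ≠ ξ ∧ w ⤳ a := fun a => by
    show a ∈ closure _ ↔ _
    rw [← Set.biUnion_of_singleton (f ⁻¹' {η} \ {ξ}), hfin.closure_biUnion]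
    simp only [Set.mem_iUnion, specializes_iff_mem_closure]
    exact ⟨fun ⟨w, ⟨hw, hwξ⟩, h⟩ => ⟨w, hw, hwξ, h⟩, fun ⟨w, hw, hwξ, h⟩ => ⟨w, ⟨hw, hwξ⟩, h⟩⟩
  have hC₁ : ∀ a, a ∈ C₁ ↔ ξ ⤳ a := fun a => specializes_iff_mem_closure.symm
  have hcover : ∀ a, f a = y → a ∈ C₁ ∨ a ∈ C₂ := fun a ha => by
    obtain ⟨w, hw, hwa⟩ := hgen a η (ha.symm ▸ hη)
    by_cases h : w = ξ
    · exact Or.inl ((hC₁ a).2 (h ▸ hwa))
    · exact Or.inr ((hC₂ a).2 ⟨w, hw, h, hwa⟩)
  have hdisj : ∀ a, f a = η → a ∈ C₁ → a ∈ C₂ → False := fun a ha h1 h2 => by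
    obtain ⟨w, hw, hwξ, hwa⟩ := (hC₂ a).1 h2
    exact hwξ ((eq_of_specializes f hwa (hw.trans ha.symm)).trans
      (eq_of_specializes f ((hC₁ a).1 h1) ha.symm).symm)
  have hx₁ : x ∈ C₁ := (hC₁ x).2 hξx
  have hx₂ : x ∈ C₂ := (hC₂ x).2 ⟨ξ', hη', fun e => hne (hξ.def.symm.trans (e ▸ hξ'.def)), hξ'x⟩
  have : ∀ C : Closeds X, LocallyOfFiniteType (restr f C) := fun C => by rw [restr]; infer_instance
  have : ∀ C : Closeds X, LocallyQuasiFinite (restr f C) := fun C => by rw [restr]; infer_instance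
  have : ∀ C : Closeds X, IsSeparated (restr f C) := fun C => by rw [restr]; infer_instance
  have : ∀ C : Closeds X, QuasiCompact (restr f C) := fun C => by rw [restr]; infer_instance
  have hle : ∀ C : Closeds X, (∀ a ∈ C, f a = y → ∃ w ∈ C, f w = η ∧ w ⤳ a) →
      MoreMor.nGeomConnComp (restr f C) y ≤ MoreMor.nGeomConnComp (restr f C) η := fun C hC => by
    obtain ⟨V, hV, hVo, hyV⟩ := mem_nhds_iff.1 (eventually_le (restr f C) y fun v hv =>
      isUnivOpenAt_restr f C (hY y) hη hmax hC v hv)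
    exact hV (hη.mem_open hVo hyV)
  have h₁ := hle C₁ fun a ha _ => ⟨ξ, subset_closure rfl, rfl, (hC₁ a).1 ha⟩
  have h₂ := hle C₂ fun a ha _ => by
    obtain ⟨w, hw, hwξ, hwa⟩ := (hC₂ a).1 ha
    exact ⟨w, subset_closure ⟨hw, hwξ⟩, hw, hwa⟩
  -- counting
  obtain ⟨K, _, _, p, hp⟩ := exists_gpt y
  obtain ⟨L, _, _, q, hq⟩ := exists_gpt η
  have hfinP : ∀ C : Closeds X, Finite (GPt (restr f C) p) := fun C =>
    finite_GPt _ p ((restr f C).finite_preimage_singleton _)
  have hfinQ : ∀ C : Closeds X, Finite (GPt (restr f C) q) := fun C =>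
    finite_GPt _ q ((restr f C).finite_preimage_singleton _)
  have : Finite (GPt f p) := finite_GPt f p (f.finite_preimage_singleton _)
  have : Finite (GPt f q) := finite_GPt f q (f.finite_preimage_singleton _)
  rw [← hp, ← hq, ← card_GPt, ← card_GPt, ENat.card_eq_coe_natCard, ENat.card_eq_coe_natCard,
    Nat.cast_le] at h₁ h₂
  have hconst : Nat.card (GPt f p) = Nat.card (GPt f q) := by
    have h := hη.mem_open (hn.isOpen_fiber (MoreMor.nGeomConnComp f y)) rfl
    change MoreMor.nGeomConnComp f η = MoreMor.nGeomConnComp f y at h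
    rw [← hp, ← hq, ← card_GPt, ← card_GPt, ENat.card_eq_coe_natCard, ENat.card_eq_coe_natCard,
      Nat.cast_inj] at h
    exact h.symm
  -- over the generic point the pieces are disjoint
  let ψ : GPt (restr f C₁) q ⊕ GPt (restr f C₂) q → GPt f q := Sum.elim (toGPt f C₁ q) (toGPt f C₂ q)
  have hψ : Function.Injective ψ := by
    refine (toGPt_injective f C₁ q).sumElim (toGPt_injective f C₂ q) fun a b hab => ?_
    have ha : f (gpt (toGPt f C₁ q a).1) = η := by rw [← gpt_comp, (toGPt f C₁ q a).2, hq]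
    exact hdisj _ ha (gpt_toGPt_mem f C₁ q a) (hab ▸ gpt_toGPt_mem f C₂ q b)
  -- over the special point they cover and overlap
  let φ : GPt (restr f C₁) p ⊕ GPt (restr f C₂) p → GPt f p := Sum.elim (toGPt f C₁ p) (toGPt f C₂ p)
  have hφs : Function.Surjective φ := fun g => by
    rcases hcover (gpt g.1) (by rw [← gpt_comp, g.2, hp]) with h | h
    · obtain ⟨g', hg'⟩ := exists_toGPt_eq f C₁ p g h
      exact ⟨Sum.inl g', hg'⟩
    · obtain ⟨g', hg'⟩ := exists_toGPt_eq f C₂ p g h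
      exact ⟨Sum.inr g', hg'⟩
  have hφi : ¬ Function.Injective φ := fun hinj => by
    obtain ⟨g, hg⟩ := exists_lift f p x hp.symm
    obtain ⟨g₁, hg₁⟩ := exists_toGPt_eq f C₁ p g (hg.symm ▸ hx₁)
    obtain ⟨g₂, hg₂⟩ := exists_toGPt_eq f C₂ p g (hg.symm ▸ hx₂)
    exact Sum.inl_ne_inr (hinj (show φ (Sum.inl g₁) = φ (Sum.inr g₂) from hg₁.trans hg₂.symm))
  have hlt : Nat.card (GPt f p) < Nat.card (GPt (restr f C₁) p ⊕ GPt (restr f C₂) p) := by
    refine lt_of_le_of_ne (Nat.card_le_card_of_surjective φ hφs) fun he => hφi ?_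
    exact (hφs.bijective_of_nat_card_le he.ge).1
  have hle' := Nat.card_le_card_of_injective ψ hψ
  rw [Nat.card_sum] at hlt hle'
  omega

end Groth.Agent.Count62
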